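import Groth.Prelude.Def_Magnet
import Mathlib.CategoryTheory.Sites.Canonical
import Mathlib.CategoryTheory.Sites.SubcanonicalOver
import Mathlib.AlgebraicGeometry.Sites.Fpqc
import Mathlib.AlgebraicGeometry.Sites.BigZariski

/-!
Functors of equivariant maps and of fixed points are sheaves for subcanonical topologies.
-/

set_option autoImplicit false
universe v₁ u₁
open CategoryTheory CategoryTheory.Limits MonoidalCategory CartesianMonoidalCategory MonObj Opposite

namespace Groth.Agent.MagnetSheaf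

variable {C : Type u₁} [Category.{v₁} C] [CartesianMonoidalCategory C] (J : GrothendieckTopology C) [J.Subcanonical]
variable {A B X : C} [MonObj A]

omit [CartesianMonoidalCategory C] in
/-- Two morphisms to `X` agreeing on a covering sieve are equal. -/
theorem hom_ext_of_cover {T : C} {R : Sieve T} (hR : R ∈ J T) {f g : T ⟶ X}
    (h : ∀ ⦃W : C⦄ (k : W ⟶ T), R k → k ≫ f = k ≫ g) : f = g :=
  ((GrothendieckTopology.Subcanonical.isSheaf_of_isRepresentable (J := J) (yoneda.obj X)) R hR).isSeparatedFor.ext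
    fun _ k hk => h k hk

theorem isSheaf_eqvHom (ρ : Magnet.MonAct A B) (a : Magnet.MonAct A X) :
    Presheaf.IsSheaf J (Magnet.MonAct.eqvHom ρ a) := by
  rw [isSheaf_iff_isSheaf_of_type]
  intro T R hR x hx
  have hX := GrothendieckTopology.Subcanonical.isSheaf_of_isRepresentable (J := J) (yoneda.obj X)
  have xc : ∀ {W : C} {p q : W ⟶ T} (_ : p = q) (h : R p) (h' : R q), (x p h).1 = (x q h').1 := by
    rintro W p q rfl h h'; rfl
  let R' := R.pullback (snd B T)
  have hR' : R' ∈ J (B ⊗ T) := J.pullback_stable _ hR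
  let y : Presieve.FamilyOfElements (yoneda.obj X) R'.arrows := fun W g hg =>
    lift (g ≫ fst B T) (𝟙 W) ≫ (x (g ≫ snd B T) hg).1
  have hy : y.Compatible := by
    rw [Presieve.compatible_iff_sieveCompatible]
    intro W W' g k hg
    have h1 := congrArg Subtype.val ((Presieve.compatible_iff_sieveCompatible x).1 hx (g ≫ snd B T) k hg)
    rw [Magnet.MonAct.eqvHom_map_coe] at h1
    change lift ((k ≫ g) ≫ fst B T) (𝟙 W') ≫ (x ((k ≫ g) ≫ snd B T) _).1 =
      k ≫ lift (g ≫ fst B T) (𝟙 W) ≫ (x (g ≫ snd B T) hg).1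
    rw [xc (Category.assoc k g (snd B T)) _ (R.downward_closed hg k), Category.assoc]
    erw [h1]
    rw [ Quiver.Hom.unop_op, lift_whiskerLeft_assoc, comp_lift_assoc, Category.id_comp, Category.comp_id]
  obtain ⟨φ, hφ, hφu⟩ := hX R' hR' y hy
  have key : ∀ ⦃W : C⦄ (k : W ⟶ T) (hk : R k), (B ◁ k) ≫ φ = (x k hk).1 := by
    intro W k hk
    have hm : R' (B ◁ k) := by
      show R ((B ◁ k) ≫ snd B T)
      rw [whiskerLeft_snd]
      exact R.downward_closed hk _
    have h2 : (B ◁ k) ≫ φ = y (B ◁ k) hm := hφ (B ◁ k) hm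
    rw [h2]
    have h1 := congrArg Subtype.val ((Presieve.compatible_iff_sieveCompatible x).1 hx k (snd B W) hk)
    rw [Magnet.MonAct.eqvHom_map_coe] at h1
    simp only [y]
    rw [xc (whiskerLeft_snd B k) _ (R.downward_closed hk _), whiskerLeft_fst]
    erw [h1]
    rw [ Quiver.Hom.unop_op, lift_whiskerLeft_assoc, Category.id_comp, lift_fst_snd, Category.id_comp]
  have hmem : Magnet.MonAct.IsEquivariant (ρ.prod (Magnet.MonAct.trivial A T)) a φ := by
    rw [Magnet.MonAct.mem_eqvHom_iff]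
    intro T' g b t
    refine hom_ext_of_cover J (J.pullback_stable t hR) fun W k hk => ?_
    have h := (Magnet.MonAct.mem_eqvHom_iff (ρ := ρ) (a := a) (x (k ≫ t) hk).1).1 (x (k ≫ t) hk).2 W
      (k ≫ g) (k ≫ b) (𝟙 W)
    rw [← key (k ≫ t) hk, lift_whiskerLeft_assoc, lift_whiskerLeft_assoc, Category.id_comp] at h
    simpa only [comp_lift_assoc, Category.assoc] using h
  refine ⟨⟨φ, hmem⟩, fun W k hk => Subtype.ext ?_, fun ψ hψ => Subtype.ext ?_⟩
  · rw [Magnet.MonAct.eqvHom_map_coe]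
    exact key k hk
  · refine hφu _ fun W g hg => ?_
    have h1 := congrArg Subtype.val (hψ (g ≫ snd B T) hg)
    rw [Magnet.MonAct.eqvHom_map_coe] at h1
    show g ≫ ψ.1 = lift (g ≫ fst B T) (𝟙 W) ≫ (x (g ≫ snd B T) hg).1
    rw [← h1, Quiver.Hom.unop_op, lift_whiskerLeft_assoc, Category.id_comp, ← comp_lift, lift_fst_snd, Category.comp_id]

theorem isSheaf_fixedPsh (a : Magnet.MonAct A X) : Presheaf.IsSheaf J (Magnet.MonAct.fixedPsh a) := by
  rw [isSheaf_iff_isSheaf_of_type]
  intro T R hR x hx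
  have hX := GrothendieckTopology.Subcanonical.isSheaf_of_isRepresentable (J := J) (yoneda.obj X)
  let y : Presieve.FamilyOfElements (yoneda.obj X) R.arrows := fun W g hg => (x g hg).1
  have hy : y.Compatible := fun Z₁ Z₂ W g₁ g₂ f₁ f₂ h₁ h₂ e => congrArg Subtype.val (hx g₁ g₂ h₁ h₂ e)
  obtain ⟨φ, hφ, hφu⟩ := hX R hR y hy
  refine ⟨⟨φ, fun T' t g => ?_⟩, fun W k hk => Subtype.ext (hφ k hk), fun ψ hψ => Subtype.ext ?_⟩
  · refine hom_ext_of_cover J (J.pullback_stable t hR) fun W k hk => ?_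
    have h1 : (k ≫ t) ≫ φ = (x (k ≫ t) hk).1 := hφ (k ≫ t) hk
    have h := (x (k ≫ t) hk).2 W (𝟙 W) (k ≫ g)
    rw [Category.id_comp, ← h1, Category.assoc] at h
    simpa only [comp_lift_assoc] using h
  · exact hφu _ fun W k hk => congrArg Subtype.val (hψ k hk)

end Groth.Agent.MagnetSheaf
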